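import Groth.Prelude.Def_W4c1btstackcountsChain
import Mathlib

/-!
# Rank arrays of chains: the combinatorics
-/

set_option autoImplicit false

namespace Groth.Agent.ChainRank

open W4c1btstackcounts

variable (r : ℕ) (a : ℕ → ℕ → ℕ)

/-- The array, extended by zero. -/
def ext (i j : ℕ) : ℕ := if i = 0 ∨ r < j then 0 else a i j

/-- Kernel dimensions. -/
def nn (i j : ℕ) : ℕ := ext r a i j - ext r a i (j + 1)

/-- Multiplicities of intervals. -/
def mm (i j : ℕ) : ℕ := nn r a i j - nn r a (i - 1) j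

/-- Intervals through `j` starting at most at `i₀`. -/
def Idx (i₀ j : ℕ) : Finset ((_ : ℕ) × (_ : ℕ) × ℕ) :=
  (Finset.Icc 1 i₀).sigma fun i => (Finset.Icc j r).sigma fun l => Finset.range (mm r a i l)

theorem mem_Idx {i₀ j : ℕ} {p : (_ : ℕ) × (_ : ℕ) × ℕ} :
    p ∈ Idx r a i₀ j ↔ (1 ≤ p.1 ∧ p.1 ≤ i₀) ∧ (j ≤ p.2.1 ∧ p.2.1 ≤ r) ∧ p.2.2 < mm r a p.1 p.2.1 := by
  simp [Idx, and_assoc]

variable {r a} {d : ℕ → ℕ} (h : IsRankArray d r a)
include h

theorem ext_anti {i j : ℕ} (hij : i ≤ j) : ext r a i (j + 1) ≤ ext r a i j := by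
  by_cases h0 : i = 0 ∨ r < j + 1
  · simp only [ext, if_pos h0]; exact Nat.zero_le _
  rw [ext, ext, if_neg h0, if_neg (by omega)]
  exact h.2.2.1 i j (by omega) hij (by omega)

theorem nn_mono {i j : ℕ} (h0 : 1 ≤ i) (hij : i ≤ j) (hjr : j ≤ r) : nn r a (i - 1) j ≤ nn r a i j := by
  have e1 := ext_anti h (j := j) (i := i - 1) (by omega)
  have e2 := ext_anti h hij
  by_cases hi : i = 1
  · subst hi; simp [nn, ext]
  rcases hjr.lt_or_eq with hl | rfl
  · have := h.2.2.2 i j (by omega) hij hl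
    simp only [nn, ext] at e1 e2 ⊢
    rw [if_neg (by omega), if_neg (by omega), if_neg (by omega), if_neg (by omega)] at *
    omega
  · have := h.2.1 (i - 1) j (by omega) (by omega) le_rfl
    rw [show i - 1 + 1 = i by omega] at this
    simp only [nn, ext]
    rw [if_neg (by omega), if_pos (by omega), if_neg (by omega), if_pos (by omega)]
    omega

theorem sum_mm {i₀ j : ℕ} (hij : i₀ ≤ j) (hjr : j ≤ r) : ∑ i ∈ Finset.Icc 1 i₀, mm r a i j = nn r a i₀ j := by
  induction i₀ with
  | zero => simp [nn, ext]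
  | succ i ih =>
    rw [Finset.sum_Icc_succ_top (by omega), ih (by omega), mm, Nat.add_sub_cancel]
    have := nn_mono h (i := i + 1) (j := j) (by omega) hij hjr
    rw [Nat.add_sub_cancel] at this
    omega

theorem card_Idx {i₀ j : ℕ} (hij : i₀ ≤ j) : (Idx r a i₀ j).card = ext r a i₀ j := by
  rw [Idx, Finset.card_sigma]
  simp only [Finset.card_sigma, Finset.card_range]
  rw [Finset.sum_comm]
  have : ∀ e j, i₀ ≤ j → r + 1 - j ≤ e →
      ∑ l ∈ Finset.Icc j r, ∑ i ∈ Finset.Icc 1 i₀, mm r a i l = ext r a i₀ j := by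
    intro e
    induction e with
    | zero => intro j _ hj; rw [Finset.Icc_eq_empty (by omega)]; simp [ext]; omega
    | succ e ih =>
      intro j hij hj
      by_cases hjr : j ≤ r
      · rw [← Finset.add_sum_Ioc_eq_sum_Icc hjr, ← Finset.Icc_add_one_left_eq_Ioc, ih (j + 1) (by omega) (by omega),
          sum_mm h hij hjr, nn]
        have := ext_anti h hij
        omega
      · rw [Finset.Icc_eq_empty hjr]; simp [ext]; omega
  exact this _ j hij le_rfl

end Groth.Agent.ChainRank
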