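import Groth.Agent.ChainRank.Count

/-!
# Chains of matrices are classified by their rank arrays
-/

set_option autoImplicit false

universe u

namespace Groth.Agent.ChainRank

open W4c1btstackcounts

variable {k : Type u} [Field k] {d : ℕ → ℕ} (f : (i : ℕ) → Matrix (Fin (d (i + 1))) (Fin (d i)) k)

/-- The image of level `i` in level `j`. -/
noncomputable def img (i : ℕ) : (j : ℕ) → Submodule k (Fin (d j) → k)
  | 0 => ⊤
  | j + 1 => if j + 1 ≤ i then ⊤ else (img i j).map (Matrix.toLin' (f j))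

theorem img_self (i : ℕ) : img f i i = ⊤ := by cases i <;> simp [img]

theorem img_succ {i j : ℕ} (h : i ≤ j) : img f i (j + 1) = (img f i j).map (Matrix.toLin' (f j)) := by
  rw [img, if_neg (by omega)]

theorem iterImage_eq (i : ℕ) : ∀ n, iterImage f i n = img f i (i + n)
  | 0 => by rw [iterImage]; exact (img_self f i).symm
  | n + 1 => by
    show (iterImage f i n).map (Matrix.toLin' (f (i + n))) = img f i (i + n + 1)
    rw [iterImage_eq i n, img_succ f (Nat.le_add_right i n)]

theorem rankArray_eq {i j : ℕ} (h : i ≤ j) : rankArray f i j = Module.finrank k (img f i j) := by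
  obtain ⟨n, rfl⟩ := Nat.exists_eq_add_of_le h
  rw [rankArray, if_pos h, Nat.add_sub_cancel_left, iterImage_eq]

theorem img_mono {i : ℕ} : ∀ {j : ℕ}, img f i j ≤ img f (i + 1) j
  | 0 => le_rfl
  | j + 1 => by
    by_cases h : j + 1 ≤ i + 1
    · rw [show img f (i + 1) (j + 1) = ⊤ by rw [img, if_pos h]]; exact le_top
    · rw [img_succ f (by omega), img_succ f (by omega)]
      exact Submodule.map_mono img_mono

theorem finrank_map_add {V W : Type*} [AddCommGroup V] [Module k V] [FiniteDimensional k V] [AddCommGroup W]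
    [Module k W] (F : V →ₗ[k] W) (U : Submodule k V) :
    Module.finrank k (U.map F) + Module.finrank k (U ⊓ LinearMap.ker F : Submodule k V) = Module.finrank k U := by
  have h := LinearMap.finrank_range_add_finrank_ker (F.comp U.subtype)
  rw [LinearMap.range_comp, Submodule.range_subtype, LinearMap.ker_comp] at h
  rw [← h, (Submodule.equivMapOfInjective U.subtype U.injective_subtype
    ((LinearMap.ker F).comap U.subtype)).finrank_eq, Submodule.map_comap_eq, Submodule.range_subtype]

theorem rankArray_conj (g : (j : ℕ) → Matrix.GeneralLinearGroup (Fin (d j)) k) (i j : ℕ) (h : i ≤ j) :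
    rankArray (conj g f) i j = rankArray f i j := by
  rw [rankArray_eq _ h, rankArray_eq _ h]
  have e : ∀ j, i ≤ j → img (conj g f) i j = (img f i j).map (Matrix.toLin' (g j).1) := by
    intro j hij
    induction j, hij using Nat.le_induction with
    | base =>
      rw [img_self, img_self, Submodule.map_top, eq_comm, LinearMap.range_eq_top]
      intro y
      refine ⟨Matrix.toLin' ((g i)⁻¹).1 y, ?_⟩
      rw [← LinearMap.comp_apply, ← Matrix.toLin'_mul, Units.mul_inv, Matrix.toLin'_one, LinearMap.id_apply]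
    | succ j hij ih =>
      rw [img_succ _ hij, img_succ _ hij, ih, ← Submodule.map_comp, ← Submodule.map_comp, ← Matrix.toLin'_mul,
        ← Matrix.toLin'_mul, conj, Matrix.mul_assoc, Units.inv_mul, Matrix.mul_one]
  rw [e j h]
  refine ((Submodule.equivMapOfInjective _ ?_ _).finrank_eq).symm
  intro x y hxy
  have := congrArg (Matrix.toLin' ((g j)⁻¹).1) hxy
  rwa [← LinearMap.comp_apply, ← LinearMap.comp_apply, ← Matrix.toLin'_mul, Units.inv_mul, Matrix.toLin'_one] at this

theorem isRankArray (r : ℕ) : IsRankArray d r (rankArray f) := by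
  refine ⟨fun j _ _ => ?_, fun i j _ hij _ => ?_, fun i j _ hij _ => ?_, fun i j hi hij _ => ?_⟩
  · rw [rankArray_eq f le_rfl, img_self, finrank_top, Module.finrank_fin_fun]
  · rw [rankArray_eq f hij.le, rankArray_eq f hij]
    exact Submodule.finrank_mono (img_mono f)
  · rw [rankArray_eq f (by omega), rankArray_eq f hij, img_succ f hij]
    exact Submodule.finrank_map_le _ _
  · obtain ⟨i, rfl⟩ : ∃ l, i = l + 1 := ⟨i - 1, by omega⟩
    rw [Nat.add_sub_cancel, rankArray_eq f (by omega), rankArray_eq f (by omega), rankArray_eq f hij,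
      rankArray_eq f (by omega), img_succ f hij, img_succ f (i := i) (by omega)]
    have h1 := finrank_map_add (Matrix.toLin' (f j)) (img f (i + 1) j)
    have h2 := finrank_map_add (Matrix.toLin' (f j)) (img f i j)
    have h3 := Submodule.finrank_mono (inf_le_inf_right (LinearMap.ker (Matrix.toLin' (f j))) (img_mono f (i := i) (j := j)))
    omega

/-- Lifts of an element of an image. -/
theorem exists_lifts {i l : ℕ} (hil : i ≤ l) (x : Fin (d l) → k) (hx : x ∈ img f i l) :
    ∃ w : (j : ℕ) → (Fin (d j) → k), w l = x ∧ (∀ j, i ≤ j → j ≤ l → w j ∈ img f i j) ∧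
      ∀ j, i ≤ j → j < l → Matrix.toLin' (f j) (w j) = w (j + 1) := by
  classical
  induction l, hil using Nat.le_induction with
  | base =>
    refine ⟨Function.update (fun _ => 0) i x, Function.update_self .., fun j h1 h2 => ?_, fun j h1 h2 => by omega⟩
    obtain rfl : j = i := by omega
    rw [Function.update_self]; exact hx
  | succ l hil ih =>
    rw [img_succ f hil] at hx
    obtain ⟨y, hy, rfl⟩ := hx
    obtain ⟨w, hw1, hw2, hw3⟩ := ih y hy
    refine ⟨Function.update w (l + 1) (Matrix.toLin' (f l) y), Function.update_self .., fun j h1 h2 => ?_,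
      fun j h1 h2 => ?_⟩
    · rcases h2.lt_or_eq with h2 | rfl
      · rw [Function.update_of_ne (by omega)]; exact hw2 j h1 (by omega)
      · rw [Function.update_self, img_succ f hil]; exact ⟨y, hy, rfl⟩
    · rw [Function.update_of_ne (show j ≠ l + 1 by omega)]
      rcases (Nat.lt_succ_iff.1 h2).lt_or_eq with h2 | rfl
      · rw [Function.update_of_ne (by omega)]; exact hw3 j h1 h2
      · rw [Function.update_self, hw1]

variable {r : ℕ} {a : ℕ → ℕ → ℕ}

/-- A normal basis of the chain. -/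
theorem exists_basis (ha : IsRankArray d r a)
    (hf : ∀ i j, 1 ≤ i → i ≤ j → j ≤ r → rankArray f i j = a i j) :
    ∃ E : (j : ℕ) → ((_ : ℕ) × (_ : ℕ) × ℕ) → (Fin (d j) → k),
      (∀ j, 1 ≤ j → j ≤ r → LinearIndependent k (fun p : Idx r a j j => E j p.1) ∧
        Submodule.span k (Set.range fun p : Idx r a j j => E j p.1) = ⊤) ∧
      ∀ j, 1 ≤ j → j + 1 ≤ r → ∀ p ∈ Idx r a j j,
        Matrix.toLin' (f j) (E j p) = if j + 1 ≤ p.2.1 then E (j + 1) p else 0 := by
  classical
  let U : (i j : ℕ) → Submodule k (Fin (d j) → k) := fun i j => if i = 0 then ⊥ else img f i j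
  let K : (j : ℕ) → Submodule k (Fin (d j) → k) := fun j => if j < r then LinearMap.ker (Matrix.toLin' (f j)) else ⊤
  have hU : ∀ i j, i ≤ j → j ≤ r → Module.finrank k (U i j) = ext r a i j := by
    intro i j hij hjr
    by_cases hi : i = 0
    · refine (congrArg (fun S : Submodule k (Fin (d j) → k) => Module.finrank k S) (if_pos hi)).trans ?_
      rw [ext, if_pos (Or.inl hi)]; exact finrank_bot k _
    · refine (congrArg (fun S : Submodule k (Fin (d j) → k) => Module.finrank k S) (if_neg hi)).trans ?_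
      rw [ext, if_neg (by omega), ← hf i j (by omega) hij hjr, rankArray_eq f hij]
  have hUmap : ∀ i j, i ≤ j → U i (j + 1) = (U i j).map (Matrix.toLin' (f j)) := by
    intro i j hij
    by_cases hi : i = 0
    · simp only [U, if_pos hi, Submodule.map_bot]
    · simp only [U, if_neg hi, img_succ f hij]
  have hUmono : ∀ i j, U i j ≤ U (i + 1) j := by
    intro i j
    by_cases hi : i = 0
    · simp only [U, if_pos hi]; exact bot_le
    · simp only [U, if_neg hi, if_neg (Nat.succ_ne_zero i)]; exact img_mono f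
  have hn : ∀ i l, i ≤ l → l ≤ r → Module.finrank k (U i l ⊓ K l : Submodule k (Fin (d l) → k)) = nn r a i l := by
    intro i l hil hlr
    have := hU i l hil hlr
    by_cases hl : l < r
    · have h2 := hU i (l + 1) (by omega) hl
      rw [hUmap i l hil] at h2
      have h3 := finrank_map_add (Matrix.toLin' (f l)) (U i l)
      have hK := congrArg (fun S : Submodule k (Fin (d l) → k) => Module.finrank k (U i l ⊓ S : Submodule k _))
        (show K l = LinearMap.ker (Matrix.toLin' (f l)) from if_pos hl)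
      simp only [nn] at hK ⊢
      omega
    · refine (congrArg (fun S : Submodule k (Fin (d l) → k) => Module.finrank k (U i l ⊓ S : Submodule k _))
        (show K l = ⊤ from if_neg hl)).trans ?_
      refine (congrArg (fun S : Submodule k (Fin (d l) → k) => Module.finrank k S) (inf_top_eq (U i l))).trans ?_
      rw [nn, this, show ext r a i (l + 1) = 0 by rw [ext, if_pos (Or.inr (by omega))], Nat.sub_zero]
  -- vectors at the right end of each interval
  have hv : ∀ i l, ∃ v : ℕ → (Fin (d l) → k), 1 ≤ i → i ≤ l → l ≤ r →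
      (∀ t, t < mm r a i l → v t ∈ U i l ⊓ K l) ∧
        U i l ⊓ K l ≤ (U (i - 1) l ⊓ K l) ⊔ Submodule.span k (v '' Set.Iio (mm r a i l)) := by
    intro i l
    by_cases hc : 1 ≤ i ∧ i ≤ l ∧ l ≤ r
    · obtain ⟨C₀, hC₀⟩ := Submodule.exists_isCompl (U (i - 1) l ⊓ K l)
      have hle : U (i - 1) l ⊓ K l ≤ U i l ⊓ K l := by
        refine inf_le_inf_right _ ?_
        have := hUmono (i - 1) l
        rwa [show i - 1 + 1 = i by omega] at this
      let C := C₀ ⊓ (U i l ⊓ K l)
      have hdim : Module.finrank k C = mm r a i l := by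
        have h1 := Submodule.finrank_sup_add_finrank_inf_eq (U (i - 1) l ⊓ K l) C
        have h2 : (U (i - 1) l ⊓ K l) ⊔ C = U i l ⊓ K l := by
          show _ ⊔ C₀ ⊓ _ = _
          rw [← sup_inf_assoc_of_le C₀ hle, hC₀.sup_eq_top, top_inf_eq]
        have h3 : (U (i - 1) l ⊓ K l) ⊓ C = ⊥ := by
          rw [eq_bot_iff, ← hC₀.inf_eq_bot]; exact inf_le_inf_left _ inf_le_left
        rw [h2, h3, finrank_bot, hn i l hc.2.1 hc.2.2, hn (i - 1) l (by omega) hc.2.2] at h1
        rw [mm]; omega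
      let b := Module.finBasisOfFinrankEq k C hdim
      refine ⟨fun t => if ht : t < mm r a i l then (b ⟨t, ht⟩).1 else 0, fun _ _ _ => ⟨fun t ht => ?_, ?_⟩⟩
      · simp only [dif_pos ht]; exact inf_le_right (a := C₀) (b ⟨t, ht⟩).2
      · have h2 : (U (i - 1) l ⊓ K l) ⊔ C = U i l ⊓ K l := by
          show _ ⊔ C₀ ⊓ _ = _
          rw [← sup_inf_assoc_of_le C₀ hle, hC₀.sup_eq_top, top_inf_eq]
        refine h2.symm.le.trans (sup_le_sup_left (fun x hx => ?_) _)
        have := congrArg (Subtype.val : C → _) (b.sum_repr ⟨x, hx⟩)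
        rw [AddSubmonoidClass.coe_finset_sum] at this
        rw [show x = _ from this.symm]
        refine sum_mem fun t _ => ?_
        rw [Submodule.coe_smul]
        exact Submodule.smul_mem _ _ (Submodule.subset_span ⟨t.1, t.2, by simp⟩)
    · exact ⟨0, fun h1 h2 h3 => absurd ⟨h1, h2, h3⟩ hc⟩
  choose v hv using hv
  have hw : ∀ p : (_ : ℕ) × (_ : ℕ) × ℕ, ∃ w : (j : ℕ) → (Fin (d j) → k),
      1 ≤ p.1 → p.1 ≤ p.2.1 → p.2.1 ≤ r → p.2.2 < mm r a p.1 p.2.1 →
        w p.2.1 = v p.1 p.2.1 p.2.2 ∧ (∀ j, p.1 ≤ j → j ≤ p.2.1 → w j ∈ img f p.1 j) ∧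
          ∀ j, p.1 ≤ j → j < p.2.1 → Matrix.toLin' (f j) (w j) = w (j + 1) := by
    intro p
    by_cases hc : 1 ≤ p.1 ∧ p.1 ≤ p.2.1 ∧ p.2.1 ≤ r ∧ p.2.2 < mm r a p.1 p.2.1
    · have hm := ((hv p.1 p.2.1 hc.1 hc.2.1 hc.2.2.1).1 p.2.2 hc.2.2.2).1
      simp only [U, SetLike.mem_coe, if_neg (show p.1 ≠ 0 by omega)] at hm
      obtain ⟨w, hw⟩ := exists_lifts f hc.2.1 _ hm
      exact ⟨w, fun _ _ _ _ => hw⟩
    · exact ⟨0, fun h1 h2 h3 h4 => absurd ⟨h1, h2, h3, h4⟩ hc⟩
  choose w hw using hw
  refine ⟨fun j p => w p j, ?_, fun j hj hjr p hp => ?_⟩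
  swap
  · rw [mem_Idx] at hp
    obtain ⟨h1, h2, h3⟩ := hw p hp.1.1 (by omega) hp.2.1.2 hp.2.2
    by_cases hl : j + 1 ≤ p.2.1
    · rw [if_pos hl]; exact h3 j hp.1.2 hl
    · rw [if_neg hl]
      obtain rfl : j = p.2.1 := by omega
      have h4 := ((hv p.1 p.2.1 hp.1.1 hp.1.2 hp.2.1.2).1 _ hp.2.2).2
      rw [show K p.2.1 = _ from if_pos (show p.2.1 < r by omega)] at h4
      exact (congrArg (Matrix.toLin' (f p.2.1)) h1).trans (LinearMap.mem_ker.1 h4)
  have hUK : ∀ i₀ j, i₀ ≤ j → j ≤ r → U i₀ j ⊓ K j ≤ Submodule.span k ((fun p => w p j) '' ↑(Idx r a i₀ j)) := by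
    intro i₀
    induction i₀ with
    | zero => intro j _ _; simp [U]
    | succ i ih =>
      intro j hij hjr
      refine ((hv (i + 1) j (by omega) hij hjr).2).trans (sup_le ?_ ?_)
      · rw [Nat.add_sub_cancel]
        refine (ih j (by omega) hjr).trans (Submodule.span_mono (Set.image_mono ?_))
        intro p hp
        simp only [Finset.mem_coe, mem_Idx] at hp ⊢
        exact ⟨⟨hp.1.1, by omega⟩, hp.2⟩
      · rw [Submodule.span_le]
        rintro _ ⟨t, ht, rfl⟩
        refine Submodule.subset_span ⟨⟨i + 1, j, t⟩, ?_, ?_⟩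
        · simp only [Finset.mem_coe, mem_Idx]
          exact ⟨⟨by omega, le_rfl⟩, ⟨le_rfl, hjr⟩, ht⟩
        · exact (hw ⟨i + 1, j, t⟩ (by simp) hij hjr ht).1
  have hspan : ∀ e j, r - j ≤ e → j ≤ r → ∀ i₀, i₀ ≤ j →
      U i₀ j ≤ Submodule.span k ((fun p => w p j) '' ↑(Idx r a i₀ j)) := by
    intro e
    induction e with
    | zero =>
      intro j he hjr i₀ hij
      refine le_trans ?_ (hUK i₀ j hij hjr)
      simp [K, show ¬ j < r by omega]
    | succ e ih =>
      intro j he hjr i₀ hij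
      by_cases hl : j < r
      · intro x hx
        have h1 := ih (j + 1) (by omega) hl i₀ (by omega) (hUmap i₀ j hij ▸ Submodule.mem_map_of_mem hx)
        have h2 : Submodule.span k ((fun p => w p (j + 1)) '' ↑(Idx r a i₀ (j + 1))) ≤
            (Submodule.span k ((fun p => w p j) '' ↑(Idx r a i₀ j)) ⊓ U i₀ j).map (Matrix.toLin' (f j)) := by
          rw [Submodule.span_le]
          rintro _ ⟨p, hp, rfl⟩
          simp only [Finset.mem_coe, mem_Idx] at hp
          obtain ⟨-, g2, g3⟩ := hw p hp.1.1 (by omega) hp.2.1.2 hp.2.2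
          refine ⟨w p j, ⟨Submodule.subset_span ⟨p, ?_, rfl⟩, ?_⟩, g3 j (by omega) (by omega)⟩
          · simp only [Finset.mem_coe, mem_Idx]; exact ⟨hp.1, ⟨by omega, hp.2.1.2⟩, hp.2.2⟩
          · simp only [U, SetLike.mem_coe, if_neg (show i₀ ≠ 0 by omega)]
            have hmono : ∀ a b, a ≤ b → img f a j ≤ img f b j := fun a b hab => by
              induction b, hab using Nat.le_induction with
              | base => exact le_rfl
              | succ b _ ih => exact ih.trans (img_mono f)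
            exact hmono _ _ hp.1.2 (g2 j (by omega) (by omega))
        obtain ⟨y, ⟨hy1, hy2⟩, hy⟩ := h2 h1
        rw [← sub_add_cancel x y]
        refine add_mem (hUK i₀ j hij hjr ⟨sub_mem hx hy2, ?_⟩) hy1
        simp only [K, SetLike.mem_coe, if_pos hl, LinearMap.mem_ker, map_sub, hy, sub_self]
      · exact ih j (by omega) hjr i₀ hij
  intro j hj hjr
  have htop : ⊤ ≤ Submodule.span k (Set.range fun p : Idx r a j j => w p.1 j) := by
    have := hspan (r - j) j le_rfl hjr j le_rfl
    simp only [U, if_neg (show j ≠ 0 by omega), img_self] at this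
    rwa [show ((fun p => w p j) '' ↑(Idx r a j j)) = Set.range fun p : Idx r a j j => w p.1 j by
      rw [Set.image_eq_range]; rfl] at this
  refine ⟨linearIndependent_of_top_le_span_of_card_eq_finrank htop ?_, eq_top_iff.2 htop⟩
  rw [Fintype.card_coe, card_Idx ha le_rfl, ext, if_neg (by omega), ha.1 j hj hjr, Module.finrank_fin_fun]

theorem exists_conj (f f' : (i : ℕ) → Matrix (Fin (d (i + 1))) (Fin (d i)) k)
    (h : ∀ i j : ℕ, 1 ≤ i → i ≤ j → j ≤ r → rankArray f i j = rankArray f' i j) :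
    ∃ g : (j : ℕ) → Matrix.GeneralLinearGroup (Fin (d j)) k, ∀ i : ℕ, 1 ≤ i → i + 1 ≤ r → conj g f i = f' i := by
  classical
  obtain ⟨E, hE1, hE2⟩ := exists_basis f (isRankArray f r) (fun i j _ _ _ => rfl)
  obtain ⟨E', hE1', hE2'⟩ := exists_basis f' (isRankArray f r) (fun i j a b c => (h i j a b c).symm)
  have hg : ∀ j, ∃ g : Matrix.GeneralLinearGroup (Fin (d j)) k, 1 ≤ j → j ≤ r →
      ∀ p ∈ Idx r (rankArray f) j j, Matrix.toLin' g.1 (E j p) = E' j p := by
    intro j
    by_cases hj : 1 ≤ j ∧ j ≤ r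
    · let b := Module.Basis.mk (hE1 j hj.1 hj.2).1 (hE1 j hj.1 hj.2).2.ge
      let b' := Module.Basis.mk (hE1' j hj.1 hj.2).1 (hE1' j hj.1 hj.2).2.ge
      let e := b.equiv b' (Equiv.refl _)
      refine ⟨⟨LinearMap.toMatrix' e.toLinearMap, LinearMap.toMatrix' e.symm.toLinearMap, ?_, ?_⟩, fun _ _ p hp => ?_⟩
      · rw [← LinearMap.toMatrix'_comp, e.comp_symm, LinearMap.toMatrix'_id]
      · rw [← LinearMap.toMatrix'_comp, e.symm_comp, LinearMap.toMatrix'_id]
      · show Matrix.toLin' (LinearMap.toMatrix' e.toLinearMap) _ = _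
        rw [Matrix.toLin'_toMatrix']
        have hb : b ⟨p, hp⟩ = E j p := Module.Basis.mk_apply _ _ _
        have hb' : b' ⟨p, hp⟩ = E' j p := Module.Basis.mk_apply _ _ _
        rw [← hb, ← hb']
        exact Module.Basis.equiv_apply _ _ _ _
    · exact ⟨1, fun h1 h2 => absurd ⟨h1, h2⟩ hj⟩
  choose g hg using hg
  refine ⟨g, fun i hi hir => ?_⟩
  have key : (g (i + 1)).1 * f i = f' i * (g i).1 := by
    refine Matrix.toLin'.injective ((Module.Basis.mk (hE1 i hi (by omega)).1 (hE1 i hi (by omega)).2.ge).ext fun p => ?_)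
    rw [Module.Basis.mk_apply, Matrix.toLin'_mul, Matrix.toLin'_mul, LinearMap.comp_apply, LinearMap.comp_apply,
      hE2 i hi hir p.1 p.2, hg i hi (by omega) p.1 p.2, hE2' i hi hir p.1 p.2]
    split_ifs with hl
    · refine hg (i + 1) (by omega) hir p.1 ?_
      have := (mem_Idx r _).1 p.2
      exact (mem_Idx r _).2 ⟨⟨this.1.1, by omega⟩, ⟨hl, this.2.1.2⟩, this.2.2⟩
    · exact map_zero _
  show (g (i + 1)).1 * f i * ((g i)⁻¹).1 = f' i
  rw [key, Matrix.mul_assoc, Units.mul_inv, Matrix.mul_one]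

theorem exists_chain (a : ℕ → ℕ → ℕ) (ha : IsRankArray d r a) :
    ∃ f : (i : ℕ) → Matrix (Fin (d (i + 1))) (Fin (d i)) k,
      ∀ i j : ℕ, 1 ≤ i → i ≤ j → j ≤ r → rankArray f i j = a i j := by
  classical
  have hb : ∀ j, ∃ E : ((_ : ℕ) × (_ : ℕ) × ℕ) → (Fin (d j) → k), 1 ≤ j → j ≤ r →
      LinearIndependent k (fun p : Idx r a j j => E p.1) ∧
        ⊤ ≤ Submodule.span k (Set.range fun p : Idx r a j j => E p.1) := by
    intro j
    by_cases hj : 1 ≤ j ∧ j ≤ r
    · have hc : Fintype.card (Idx r a j j) = Fintype.card (Fin (d j)) := by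
        rw [Fintype.card_coe, card_Idx ha le_rfl, ext, if_neg (by omega), ha.1 j hj.1 hj.2, Fintype.card_fin]
      let b := (Pi.basisFun k (Fin (d j))).reindex (Fintype.equivOfCardEq hc).symm
      refine ⟨fun p => if hp : p ∈ Idx r a j j then b ⟨p, hp⟩ else 0, fun _ _ => ?_⟩
      have he : (fun p : Idx r a j j => if hp : p.1 ∈ Idx r a j j then b ⟨p.1, hp⟩ else 0) = b :=
        funext fun p => dif_pos p.2
      rw [he]
      exact ⟨b.linearIndependent, b.span_eq.ge⟩
    · exact ⟨0, fun h1 h2 => absurd ⟨h1, h2⟩ hj⟩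
  choose E hE using hb
  let f : (i : ℕ) → Matrix (Fin (d (i + 1))) (Fin (d i)) k := fun i =>
    if hi : 1 ≤ i ∧ i ≤ r then LinearMap.toMatrix' ((Module.Basis.mk (hE i hi.1 hi.2).1 (hE i hi.1 hi.2).2).constr k
      fun p => if i + 1 ≤ p.1.2.1 then E (i + 1) p.1 else 0) else 0
  refine ⟨f, fun i j hi hij hjr => ?_⟩
  have hfE : ∀ j, 1 ≤ j → j ≤ r → ∀ p ∈ Idx r a j j,
      Matrix.toLin' (f j) (E j p) = if j + 1 ≤ p.2.1 then E (j + 1) p else 0 := by
    intro j hj hjr p hp
    simp only [f, dif_pos (And.intro hj hjr), Matrix.toLin'_toMatrix']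
    have hb : Module.Basis.mk (hE j hj hjr).1 (hE j hj hjr).2 ⟨p, hp⟩ = E j p := Module.Basis.mk_apply _ _ _
    rw [← hb, Module.Basis.constr_basis]
  have himg : img f i j = Submodule.span k (E j '' ↑(Idx r a i j)) := by
    induction j, hij using Nat.le_induction with
    | base =>
      rw [img_self]
      refine le_antisymm ?_ le_top
      have := (hE i hi hjr).2
      rwa [Set.image_eq_range]
    | succ j hij ih =>
      rw [img_succ f hij, ih (by omega), Submodule.map_span]
      refine le_antisymm (Submodule.span_le.2 ?_) (Submodule.span_mono ?_)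
      · rintro _ ⟨_, ⟨p, hp, rfl⟩, rfl⟩
        have hp' := (mem_Idx r a).1 hp
        rw [hfE j (by omega) (by omega) p ((mem_Idx r a).2 ⟨⟨hp'.1.1, by omega⟩, hp'.2⟩)]
        split_ifs with hl
        · exact Submodule.subset_span ⟨p, (mem_Idx r a).2 ⟨hp'.1, ⟨hl, hp'.2.1.2⟩, hp'.2.2⟩, rfl⟩
        · exact zero_mem _
      · rintro _ ⟨p, hp, rfl⟩
        have hp' := (mem_Idx r a).1 hp
        refine ⟨E j p, ⟨p, (mem_Idx r a).2 ⟨hp'.1, ⟨by omega, hp'.2.1.2⟩, hp'.2.2⟩, rfl⟩, ?_⟩
        rw [hfE j (by omega) (by omega) p ((mem_Idx r a).2 ⟨⟨hp'.1.1, by omega⟩, ⟨by omega, hp'.2.1.2⟩, hp'.2.2⟩),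
          if_pos hp'.2.1.1]
  rw [rankArray_eq f hij, himg, Set.image_eq_range]
  have hsub : ∀ p : Idx r a i j, p.1 ∈ Idx r a j j := fun p => by
    have hp' := (mem_Idx r a).1 p.2
    exact (mem_Idx r a).2 ⟨⟨hp'.1.1, by omega⟩, hp'.2⟩
  let ι : Idx r a i j → Idx r a j j := fun p => ⟨p.1, hsub p⟩
  have hinj : Function.Injective ι := fun p q h => Subtype.ext (congrArg (Subtype.val : Idx r a j j → _) h)
  have hli : LinearIndependent k (fun p : Idx r a i j => E j p.1) :=
    LinearIndependent.comp (v := fun p : Idx r a j j => E j p.1) (hE j (by omega) hjr).1 ι hinj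
  have hcard : Fintype.card (Idx r a i j) = a i j := by rw [Fintype.card_coe, card_Idx ha hij, ext, if_neg (by omega)]
  have hfin := linearIndependent_iff_card_eq_finrank_span.1 hli
  rw [hcard] at hfin
  exact hfin.symm

end Groth.Agent.ChainRank
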